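import Groth.Agent.QuotEt.Compare
import Groth.Agent.AlgStBasic.AffCalc
import Groth.Agent.AlgStBasic.LocalLift
import Groth.Agent.AlgStBasic.Permanence
import Groth.Agent.AlgSpBasic.DiagBaseChange
import Groth.Agent.AlgSp2.AffineRows

/-!
# The diagonal of an etale quotient stack by a smooth affine group is affine
-/

set_option autoImplicit false
set_option backward.isDefEq.respectTransparency false
set_option backward.isDefEq.respectTransparency.types false

universe u

open CategoryTheory CategoryTheory.Limits AlgebraicGeometry Opposite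

noncomputable section

namespace Groth.QuotEt

open Groth.StkBase Groth.AlgStBasic

variable {S : Scheme.{u}}

theorem repWith_diagonal_yon_map {A B : Over S} (g : A ⟶ B) (P : MorphismProperty Scheme.{u})
    [P.IsStableUnderBaseChange] (h : P (pullback.diagonal g.left)) :
    AlgSp.RepWith P (pullback.diagonal ((AlgSp.yon S).map g)) := by
  let D : Over S := Over.mk (pullback.fst g.left g.left ≫ A.hom)
  let p₁ : D ⟶ A := Over.homMk (pullback.fst g.left g.left) rfl
  let p₂ : D ⟶ A := Over.homMk (pullback.snd g.left g.left) (by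
    show pullback.snd g.left g.left ≫ A.hom = pullback.fst g.left g.left ≫ A.hom
    rw [← Over.w g, ← pullback.condition_assoc])
  let δ : A ⟶ D := Over.homMk (pullback.diagonal g.left) (by simp [D])
  have sqD : IsPullback p₁ p₂ g g := IsPullback.of_map (Over.forget S)
    (Over.OverMorphism.ext pullback.condition) (IsPullback.of_hasPullback g.left g.left)
  have sqY := sqD.map (AlgSp.yon S)
  have e : (AlgSp.yon S).map δ ≫ sqY.isoPullback.hom = pullback.diagonal ((AlgSp.yon S).map g) := by
    apply pullback.hom_ext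
    · rw [Category.assoc, sqY.isoPullback_hom_fst, pullback.diagonal_fst, ← Functor.map_comp,
        show δ ≫ p₁ = 𝟙 A from Over.OverMorphism.ext (pullback.diagonal_fst _),
        CategoryTheory.Functor.map_id]
    · rw [Category.assoc, sqY.isoPullback_hom_snd, pullback.diagonal_snd, ← Functor.map_comp,
        show δ ≫ p₂ = 𝟙 A from Over.OverMorphism.ext (pullback.diagonal_snd _),
        CategoryTheory.Functor.map_id]
  have : P.RespectsIso := MorphismProperty.IsStableUnderBaseChange.respectsIso
  refine Groth.AlgSpBasic.repWith_of_isPullback (IsPullback.of_horiz_isIso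
    (fst := 𝟙 _) (g := sqY.isoPullback.inv) ⟨?_⟩) ((AlgSp.repWith_yon_map_iff P δ).2 h)
  rw [← e, Category.assoc, Iso.hom_inv_id, Category.comp_id, Category.id_comp]

/-- The first projection of a product of slices has the diagonal properties of the second factor. -/
theorem repWith_diagWith_fpFst_prod (U V : Over S) (R : MorphismProperty Scheme.{u})
    [R.IsStableUnderBaseChange] (h : R (pullback.diagonal V.hom)) :
    AlgSt.RepByAlgSpWith (DiagWith R)
      (FibCat.fpFst (FibCat.toSelf (FibCat.overCat U)) (FibCat.toSelf (FibCat.overCat V))) := by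
  let T : AlgSp.PSp S := (AlgSp.pyon S).obj (Over.mk (𝟙 S))
  have hT : ∀ W, Nonempty (Unique (T.obj W)) := fun W =>
    ⟨{ default := ⟨Over.mkIdTerminal.from W.unop⟩,
       uniq := fun t => ULift.ext _ _ (Over.mkIdTerminal.hom_ext _ _) }⟩
  have hc := isEquivOver_toSelf_ofPsh_of_unique T hT
  have := full_of_isEquivOver hc
  have := faithful_of_isEquivOver hc
  let W : Over S := U ⨯ V
  let p : W ⟶ U := prod.fst
  have sq : IsPullback ((AlgSp.pyon S).map p) ((AlgSp.pyon S).map (prod.snd : W ⟶ V))
      ((AlgSp.pyon S).map (Over.mkIdTerminal.from U)) ((AlgSp.pyon S).map (Over.mkIdTerminal.from V)) :=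
    (IsPullback.of_is_product' (prodIsProd U V) Over.mkIdTerminal).map (AlgSp.pyon S)
  let e := BasedFunctor.comp
    (BasedFunctor.comp (pshFpLift sq.w) (fpPost _ _ (FibCat.toSelf (Stk.ofPsh T))))
    (fpPre (AlgSt.toOverCat U) (AlgSt.toOverCat V) (FibCat.toSelf (FibCat.overCat U))
      (FibCat.toSelf (FibCat.overCat V)))
  have he : FibCat.IsEquivOver e :=
    isEquivOver_comp (isEquivOver_comp (isEquivOver_pshFpLift sq) (isEquivOver_fpPost _ _ _))
      (isEquivOver_fpPre (isEquivOver_toOverCat U) (isEquivOver_toOverCat V) _ _)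
  have sq' : IsPullback p.left (prod.snd : W ⟶ V).left U.hom V.hom := by
    have := (IsPullback.of_is_product' (prodIsProd U V) Over.mkIdTerminal).map (Over.forget S)
    simpa using this
  have hd : R (pullback.diagonal p.left) :=
    MorphismProperty.of_isPullback (P := R.diagonal) sq'.flip h
  refine (repWith_precomp_equiv he _).1 ?_
  refine repWith_of_iso (f := BasedFunctor.comp (Stk.ofPshMap ((AlgSp.yon S).map p).hom)
    (AlgSt.toOverCat U)) (Iso.refl _) ?_
  exact (repWith_postcomp_equiv _ (isEquivOver_toOverCat U)).2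
    (repWith_ofPshMap_of_stable (stableBaseChange_diagWith R)
      (F := ⟨(AlgSp.yon S).obj W, AlgSp.IsAlgSpace.yon_obj W⟩)
      (G := ⟨(AlgSp.yon S).obj U, AlgSp.IsAlgSpace.yon_obj U⟩) _ (repWith_diagonal_yon_map p R hd))

/-- The diagonal of an algebraic stack with an affine smooth atlas from a scheme with affine diagonal
is affine. -/
theorem repWith_isAffineMor_diag {𝒳 : AlgSt.Cat S} (h𝒳 : FibCat.IsFibGrpd 𝒳.p)
    (hd : AlgSt.RepByAlgSp1 (FibCat.diag (FibCat.toSelf 𝒳))) {U : Over S}
    {x : FibCat.overCat U ⥤ᵇ 𝒳} (hx : AlgSt.RepByAlgSpWith (AlgSp.LocP @Smooth) x)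
    (hxs : AlgSt.RepByAlgSpWith AlgSp.IsSurjectiveMor x)
    (hxa : AlgSt.RepByAlgSpWith AlgSp.IsAffineMor x)
    (hU : IsAffineHom (pullback.diagonal U.hom)) :
    AlgSt.RepByAlgSpWith AlgSp.IsAffineMor (FibCat.diag (FibCat.toSelf 𝒳)) := by
  have hU' : FibCat.IsFibGrpd (FibCat.overCat U).p := isFibGrpd_overCat U
  let t := FibCat.toSelf 𝒳
  let M := fpPre x x t t
  have hM₁ : AlgSt.RepByAlgSpWith (AlgSp.LocP @Flat) M :=
    repWith_fpPre hU' h𝒳 hU' isFibGrpd_selfOver stableBaseChange_locP stableComp_locP
      descendsAlongAtlas_locP x x t t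
      (repWith_locP_of_smooth (P := @Flat) (fun _ _ f (_ : Smooth f) => inferInstance) hx)
      (repWith_locP_of_smooth (P := @Flat) (fun _ _ f (_ : Smooth f) => inferInstance) hx)
  have hM₂ : AlgSt.RepByAlgSpWith (AlgSp.LocP @LocallyOfFinitePresentation) M :=
    repWith_fpPre hU' h𝒳 hU' isFibGrpd_selfOver stableBaseChange_locP stableComp_locP
      descendsAlongAtlas_locP x x t t
      (repWith_locP_of_smooth (P := @LocallyOfFinitePresentation)
        (fun _ _ f (_ : Smooth f) => inferInstance) hx)
      (repWith_locP_of_smooth (P := @LocallyOfFinitePresentation)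
        (fun _ _ f (_ : Smooth f) => inferInstance) hx)
  have hM₃ : AlgSt.RepByAlgSpWith AlgSp.IsSurjectiveMor M :=
    repWith_fpPre hU' h𝒳 hU' isFibGrpd_selfOver stableBaseChange_surjective stableComp_surjective
      descendsAlongAtlas_surjective x x t t hxs hxs
  have hl : AlgSp.IsLocalOnBase (AlgSp.IsFppfCover (S := S)) (AlgSp.RepWith @IsAffineHom) :=
    isAffineMor_eq (S := S) ▸ isLocalOnBase_fppf_of_fpqc Groth.AlgSp2.isLocalOnBase_fpqc_isAffineMor
  rw [isAffineMor_eq] at hxa ⊢
  refine repWith_of_locally (stableBaseChange_repWith _) hl hd (g := M)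
    (fun V z => exists_lift_of_fppf_surjective hM₁ hM₂ hM₃ V z) ?_
  refine (repWith_precomp_equiv (isEquivOver_diagFp' x x t) _).1 ?_
  let T := FibCat.fpFst (BasedFunctor.comp x t) (BasedFunctor.comp x t)
  have hT : AlgSt.RepByAlgSpWith (DiagWith @IsAffineHom) T := by
    let C := fpCongr (selfIso (BasedFunctor.comp x t) (FibCat.toSelf (FibCat.overCat U)))
      (selfIso (BasedFunctor.comp x t) (FibCat.toSelf (FibCat.overCat U)))
    exact repWith_of_iso (Iso.refl _) ((repWith_precomp_equiv (a := C) (isEquivOver_fpCongr _ _) _).2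
      (repWith_diagWith_fpFst_prod U U @IsAffineHom hU))
  refine repWith_of_comp_cancel' (g := T) (isFibGrpd_fp hU' hU' h𝒳)
    (isFibGrpd_fp hU' hU' isFibGrpd_selfOver) (stableBaseChange_repWith _)
    (stableBaseChange_diagWith @IsAffineHom)
    (fun _ _ _ _ _ _ a b hb hab =>
      Groth.AlgSpBasic.repWith_of_comp_of_diagonal @IsAffineHom hab hb)
    ((repByAlgSp1_precomp_iff (isEquivOver_diagFp' x x t) _).2 (repByAlgSp1_fpFst _ _ hd)) hT ?_
  exact repWith_of_iso (Iso.refl _) (repWith_fpFst x x hxa)

end Groth.QuotEt
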