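import Groth.Agent.QuotStk.QuotStStack
import Groth.Agent.QuotStk.QuotMap
import Groth.Agent.SmoothSlice.Sections
import Groth.Agent.AlgStBasic.DiagOfAtlas
import Groth.Agent.AlgSp2.SmoothDescent
import Groth.Agent.AlgStBasic.Invariance
import Groth.Agent.EtaleBase.FpqcDescent
import Groth.Agent.AlgSpBasic.Topology

/-!
# Quotient stacks for the etale topology and smooth groups

For a smooth group scheme every fppf torsor is locally trivial for the etale topology.
-/

set_option autoImplicit false
set_option backward.isDefEq.respectTransparency false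
set_option backward.isDefEq.respectTransparency.types false

universe u

open CategoryTheory CategoryTheory.Limits MonoidalCategory CartesianMonoidalCategory AlgebraicGeometry

noncomputable section

namespace Groth.QuotEt

open Groth.StkBase Groth.AlgStBasic

variable {S : Scheme.{u}} {G X : Over S} [GrpObj G] (aX : AlgGrp.Action G X)

/-- An etale quotient object as an fppf quotient object. -/
def toFppfObj (A : AlgSt.QuotObj Scheme.etalePrecoverage G aX) :
    AlgSt.QuotObj Scheme.fppfPrecoverage G aX where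
  base := A.base
  P := A.P
  act := A.act
  π := A.π
  cart := A.cart
  loc := by
    obtain ⟨R, hR, h⟩ := A.loc
    exact ⟨R, Groth.AlgSpBoot.etalePrecoverage_le_fppfPrecoverage _ hR, h⟩
  φ := A.φ
  eqv := A.eqv

/-- The comparison of etale and fppf quotient stacks. -/
def toFppf : AlgSt.QuotSt Scheme.etalePrecoverage G aX ⥤ᵇ
    AlgSt.QuotSt Scheme.fppfPrecoverage G aX where
  toFunctor :=
    { obj := fun A => toFppfObj aX A
      map := fun {A B} f => ⟨f.base, f.top, f.eqv, f.cart, f.wφ⟩
      map_id := fun _ => rfl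
      map_comp := fun _ _ => rfl }
  w := rfl

instance toFppf_full : (toFppf aX).toFunctor.Full :=
  ⟨fun {A B} f => ⟨⟨f.base, f.top, f.eqv, f.cart, f.wφ⟩, rfl⟩⟩

instance toFppf_faithful : (toFppf aX).toFunctor.Faithful :=
  ⟨fun {A B} f g h => AlgSt.QuotObj.hom_ext (congrArg (fun m => m.base) h)
    (congrArg (fun m => m.top) h)⟩

theorem surjective_π (A : AlgSt.QuotObj Scheme.fppfPrecoverage G aX) : Surjective A.π.left :=
  Groth.QuotStk.prop_π @Surjective Groth.QuotStk.surjective_hom A

theorem smooth_π (hG : Smooth G.hom) (A : AlgSt.QuotObj Scheme.fppfPrecoverage G aX) :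
    Smooth A.π.left :=
  have : (MorphismProperty.IsLocalAtTarget @Smooth.{u} Scheme.fppfPrecoverage) :=
    Groth.AlgSpBasic.EtaleLocal.localAtTarget
  Groth.QuotStk.prop_π @Smooth hG A

theorem loc_etale (hG : Smooth G.hom) (A : AlgSt.QuotObj Scheme.fppfPrecoverage G aX) :
    NonAbH1.IsLocallyTrivialFor Scheme.etalePrecoverage (Over.mk A.π.left : Over A.base.left) := by
  have := smooth_π aX hG A
  have := surjective_π aX A
  choose x hx using A.π.left.surjective
  choose W h w he hw using fun b => Groth.SmoothSlice.exists_etale_section (f := A.π.left) (x b)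
  refine ⟨Presieve.ofArrows W (fun b => h b ≫ A.π.left), ?_, ?_⟩
  · rw [Scheme.etalePrecoverage, Scheme.ofArrows_mem_precoverage_iff]
    exact ⟨fun b => ⟨b, w b, (hw b).trans (hx b)⟩, he⟩
  · rintro S' f ⟨b⟩
    exact ⟨h b, rfl⟩

/-- An fppf quotient object of a smooth group as an etale quotient object. -/
def ofFppfObj (hG : Smooth G.hom) (A : AlgSt.QuotObj Scheme.fppfPrecoverage G aX) :
    AlgSt.QuotObj Scheme.etalePrecoverage G aX where
  base := A.base
  P := A.P
  act := A.act
  π := A.π
  cart := A.cart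
  loc := loc_etale aX hG A
  φ := A.φ
  eqv := A.eqv

theorem isEquivOver_toFppf (hG : Smooth G.hom) : FibCat.IsEquivOver (toFppf aX) :=
  isEquivOver_of_fullyFaithful _ inferInstance inferInstance fun A =>
    ⟨ofFppfObj aX hG A, Iso.refl _, isVert_id _⟩

theorem toFppf_quotMap :
    BasedFunctor.comp (AlgSt.quotMap Scheme.etalePrecoverage G aX) (toFppf aX) =
      AlgSt.quotMap Scheme.fppfPrecoverage G aX := rfl

theorem isStack_etale_of_fppf {𝒳 : AlgSt.Cat S} (h : Stk.IsStack (AlgSp.J S) 𝒳) :
    Stk.IsStack (Groth.AlgSpBoot.Jet S) 𝒳 :=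
  ⟨h.1, fun U R hR => h.2 R (by
    rw [GrothendieckTopology.mem_over_iff] at hR ⊢
    exact Precoverage.toGrothendieck_mono Groth.AlgSpBoot.etalePrecoverage_le_fppfPrecoverage _ hR)⟩

/-- The atlas of an etale quotient stack has a property when the fppf atlas has it. -/
theorem repWith_atlas {P : MorphismProperty (AlgSp.Sp S)} (hG : Smooth G.hom)
    (h : AlgSt.RepByAlgSpWith P (Groth.QuotStk.atlas aX)) :
    AlgSt.RepByAlgSpWith P
      (BasedFunctor.comp (AlgSt.ofOverCat X) (AlgSt.quotMap Scheme.etalePrecoverage G aX)) :=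
  (repWith_postcomp_equiv _ (isEquivOver_toFppf aX hG)).1 h

theorem isAffineHom_π (hG : IsAffineHom G.hom) (A : AlgSt.QuotObj Scheme.fppfPrecoverage G aX) :
    IsAffineHom A.π.left :=
  have : MorphismProperty.IsLocalAtTarget @IsAffineHom.{u} Scheme.fppfPrecoverage :=
    Groth.AlgSpBasic.isLocalAtTarget_fppf _
  Groth.QuotStk.prop_π @IsAffineHom hG A

theorem isAffineMor_yon_map {T T' : Over S} (f : T ⟶ T') (hf : IsAffineHom f.left) :
    AlgSp.IsAffineMor ((AlgSp.yon S).map f) := by
  intro Z hZ g
  obtain ⟨k, rfl⟩ := (AlgSp.yon S).map_surjective g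
  have h := (AlgSp.repWith_yon_map_iff @IsAffineHom f).2 hf
  obtain ⟨W, i, fst, hsq⟩ := h.rep ((AlgSp.yon S).map k)
  have : IsAffineHom i.left := h.property _ fst i hsq
  exact ⟨W, i, fst, hsq, isAffine_of_isAffineHom i.left⟩

/-- The fppf atlas of a quotient stack by an affine group is affine. -/
theorem repWith_isAffineMor_atlas (hG : IsAffineHom G.hom) :
    AlgSt.RepByAlgSpWith AlgSp.IsAffineMor (Groth.QuotStk.atlas aX) :=
  Groth.QuotStk.repByAlgSpWith_atlas _ fun A U e => by
    subst e
    rw [eqToHom_refl, Category.comp_id]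
    exact isAffineMor_yon_map _ (isAffineHom_π aX hG A)

/-- The quotient stack of a smooth affine group for the etale topology is algebraic. -/
theorem isAlgStack_quotSt_etale (hs : Smooth G.hom) (ha : IsAffineHom G.hom) :
    AlgSt.IsAlgStack Scheme.etalePrecoverage (AlgSt.QuotSt Scheme.etalePrecoverage G aX) := by
  have hsm : MorphismProperty.IsLocalAtTarget @Smooth.{u} Scheme.fppfPrecoverage :=
    Groth.AlgSpBasic.EtaleLocal.localAtTarget
  exact isAlgStack_etale_of_hasAtlas
    (isStack_etale_of_fppf ((isStack_iff_of_isEquivOver (AlgSp.J S) (isEquivOver_toFppf aX hs)).2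
      (Groth.QuotStk.isStack_quotSt aX)))
    ⟨X, _, repWith_atlas aX hs (Groth.QuotStk.repByAlgSpWith_locP_atlas @Smooth hs),
      repWith_atlas aX hs (Groth.QuotStk.repByAlgSpWith_surjective_atlas aX)⟩

end Groth.QuotEt
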